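import Cfsg.Agent.H613.KKL.Defs
import Cfsg.Agent.H648.Dict
import Cfsg.Agent.Blocks.CentralScalar
import Cfsg.Agent.S0907
import Mathlib
import Cfsg.Agent.H613.RegGram
import Cfsg.Agent.H624.MajVal
import Cfsg.Agent.Prune
set_option linter.all false

section
prune_inst 0x7f00000000000000000000000000000000000000000000000000000000000000000000000000000000000000000000000000000000000000000000000000000000000000000000000000000000000000003fffffffffffffffffffffffffffbeffbdfbfeffff

-- part: H466/KKL/A12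
section
set_option linter.all false
open scoped Cfsg.Agent.FastGrp

/-!
# S4546, A1 and A2

* `A1` : defect classes are 2-regular, and the Sylow property of the defect group;
* `supp_idem` : central idempotents of `k[H]` are supported on the centralizer of a normal `p`-subgroup;
* `A2` : normal 2-subgroups of `C_G(R)`, `R ≤ D`, `D` abelian, lie in the defect group `D`.
-/

set_option autoImplicit false
set_option linter.unusedSectionVars false

open Cfsg Cfsg.Agent.H613.KKL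

universe u

namespace Cfsg.Agent.H466.KKL

open Cfsg.Agent.H644 Cfsg.Agent.Blocks.Local Cfsg.Agent.H648.Dict

section Reg

variable {G : Type*} [Group G] [Finite G] {p : ℕ} {M : Ideal AlgInt} {B : Set (IrrCharacter G)}

/-- Elements at which the idempotent of a block does not vanish are `p`-regular. -/
theorem not_dvd_orderOf (hM : IsPModular p M) (hB : IsPBlock M B) {g : G}
    (hg : ¬ MemLocalIdeal M (blockCoeff B g)) : ¬ p ∣ orderOf g := by
  have : Fact p.Prime := ⟨hM.1⟩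
  have hMp : M.IsPrime := isPrime_of_isPModular hM
  intro hdvd
  apply hg
  have h1 := Cfsg.Agent.S0907.result p M hM B hB 1 g (by
    rw [orderOf_one]; exact hM.1.one_lt.not_ge ∘ Nat.le_of_dvd one_pos) hdvd
  have h2 : blockCoeff B g = 0 := by
    rw [Cfsg.Agent.Blocks.Basic.blockCoeff_def]
    exact (congrArg _ h1).trans (mul_zero _)
  rw [h2]
  exact memLocalIdeal_zero

end Reg

section Supp

variable {H : Type*} [Group H] [Finite H] {p : ℕ} {M : Ideal AlgInt} [M.IsPrime]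

theorem lam_clsSum_eq_zero (hM : IsPModular p M) (χ : IrrCharacter H) {N : Subgroup H} [N.Normal]
    (hN : IsPGroup p N) {g : H} (hg : g ∉ Subgroup.centralizer (N : Set H)) :
    lam M (χ : H → ℂ) (clsSum M g) = 0 := by
  have : Fact p.Prime := ⟨hM.1⟩
  obtain ⟨n, c, hc, hpow⟩ := Cfsg.Agent.Blocks.CentralScalar.pow_centralChar_eq χ.2 N hN g hg
  have h1M : (1 : Cfsg.AlgInt) ∉ M := fun h =>
    (inferInstance : M.IsPrime).ne_top ((Ideal.eq_top_iff_one M).mpr h)
  rw [lam_clsSum, redC_eq_zero_iff (memLocalRing_centralChar χ g)]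
  let a : AlgInt := ⟨centralChar (χ : H → ℂ) g,
    Cfsg.Agent.Blocks.CentralScalar.isIntegral_centralChar χ.2 g⟩
  have ha : a ^ n = (p : AlgInt) * ⟨c, hc⟩ := by
    apply Subtype.ext
    push_cast
    exact hpow
  have haM : a ∈ M := by
    apply (inferInstance : M.IsPrime).mem_of_pow_mem n
    rw [ha]
    exact M.mul_mem_right _ hM.2.2
  exact ⟨a, 1, haM, h1M, by simp [a]⟩

/-- Central idempotents of `k[H]` are supported on the centralizer of a normal `p`-subgroup. -/
theorem supp_idem (hM : IsPModular p M) {N : Subgroup H} [N.Normal] (hN : IsPGroup p N)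
    {e : MonoidAlgebra (ResField M) H} (he : IsCls e) (hee : e * e = e) {h : H}
    (hh : e.coeff h ≠ 0) : h ∈ Subgroup.centralizer (N : Set H) := by
  classical
  have : Fact p.Prime := ⟨hM.1⟩
  have := charP_resField hM
  by_contra hcon
  apply hh
  set C := Subgroup.centralizer (N : Set H) with hC
  have hCn : C.Normal := by rw [hC]; infer_instance
  set e' : MonoidAlgebra (ResField M) H := emb C (br N e) with he'
  have he'cls : IsCls e' := by
    intro g k
    by_cases hg : g ∈ C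
    · have hkg : k * g * k⁻¹ ∈ C := hCn.conj_mem g hg k
      rw [he', coeff_emb_of_mem _ hg, coeff_emb_of_mem _ hkg, coeff_br, coeff_br]
      exact he g k
    · have hkg : k * g * k⁻¹ ∉ C := by
        intro h1
        apply hg
        have h2 := hCn.conj_mem _ h1 k⁻¹
        simpa [mul_assoc] using h2
      rw [he', coeff_emb_of_notMem _ hg, coeff_emb_of_notMem _ hkg]
  have he'e' : e' * e' = e' := by
    rw [he', ← map_mul, ← br_mul hN (isInv_of_isCls he N) (isInv_of_isCls he N), hee]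
  have h1 : e = e' := by
    refine eq_of_lam he hee he'cls he'e' fun χ => ?_
    rw [← sub_eq_zero, ← map_sub]
    have h2 : IsCls (e - e') := isCls_sub he he'cls
    have h3 := eq_of_clsSum (F := lam M (χ : H → ℂ)) (F' := 0) h2 fun g hg => by
      rw [LinearMap.zero_apply]
      refine lam_clsSum_eq_zero hM χ hN fun hgC => hg ?_
      rw [MonoidAlgebra.coeff_sub, Finsupp.sub_apply, he', coeff_emb_of_mem _ hgC, coeff_br,
        sub_self]
    rw [h3, LinearMap.zero_apply]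
  rw [h1, he', coeff_emb_of_notMem _ hcon]

end Supp

section A

variable {G : Type u} [Group G] [Finite G] {M : Ideal AlgInt} (hM : IsPModular 2 M) {B : Set (IrrCharacter G)}
  (hB : IsPBlock M B) {D : Subgroup G} (hD : IsDefectGroup 2 M B D) (h8 : E8 D)
include hM hB hD h8

/-- A1: defect classes are 2-regular (Osima) + Sylow. -/
theorem A1 : ∃ x : G, Odd (orderOf x) ∧ (∀ d ∈ D, d * x = x * d) ∧ ∀ Q : Subgroup G, IsPGroup 2 Q →
    (∀ q ∈ Q, q * x = x * q) → ∃ c : G, c * x = x * c ∧ ∀ q ∈ Q, c * q * c⁻¹ ∈ D := by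
  obtain ⟨x, hx, P, hP⟩ := hD
  refine ⟨x, ?_, ?_, ?_⟩
  · rw [← Nat.not_even_iff_odd, even_iff_two_dvd]
    exact not_dvd_orderOf hM hB hx.2.1
  · intro d hd
    rw [hP] at hd
    obtain ⟨y, -, rfl⟩ := hd
    exact Subgroup.mem_centralizer_singleton_iff.1 y.2
  · intro Q hQ hQx
    have hle : Q ≤ Subgroup.centralizer ({x} : Set G) := fun q hq =>
      Subgroup.mem_centralizer_singleton_iff.2 (hQx q hq)
    have hQ' : IsPGroup 2 (Q.subgroupOf (Subgroup.centralizer ({x} : Set G))) := hQ.comap_subtype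
    obtain ⟨S, hS⟩ := hQ'.exists_le_sylow
    obtain ⟨c, hc⟩ := MulAction.exists_smul_eq (Subgroup.centralizer ({x} : Set G)) S P
    refine ⟨c, Subgroup.mem_centralizer_singleton_iff.1 c.2, fun q hq => ?_⟩
    rw [hP]
    refine ⟨c * ⟨q, hle hq⟩ * c⁻¹, ?_, rfl⟩
    rw [← hc]
    have h1 : (⟨q, hle hq⟩ : Subgroup.centralizer ({x} : Set G)) ∈ (S : Subgroup _) :=
      hS (Subgroup.mem_subgroupOf.2 hq)
    have h2 := Subgroup.smul_mem_pointwise_smul _ (MulAut.conj c) _ h1
    exact h2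

/-- A2: normal 2-subgroups of `C_G(R)`, `R ≤ D`, lie in `D`. -/
theorem A2 : ∀ R : Subgroup G, R ≤ D → ∀ N : Subgroup G, IsPGroup 2 N →
    N ≤ Subgroup.centralizer (R : Set G) →
    (∀ c ∈ Subgroup.centralizer (R : Set G), ∀ n ∈ N, c * n * c⁻¹ ∈ N) → N ≤ D := by
  classical
  have hf : Fact (Nat.Prime 2) := ⟨Nat.prime_two⟩
  have hMp : M.IsPrime := isPrime_of_isPModular hM
  have := charP_resField hM
  intro R hR N hN hNR hNn
  have hDp : IsPGroup 2 D := Cfsg.Agent.Blocks.Basic.isPGroup_of_isDefectGroup hD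
  have hRp : IsPGroup 2 R := hDp.to_le hR
  -- `D` is abelian
  have hab : ∀ a ∈ D, ∀ b ∈ D, a * b = b * a := by
    intro a ha b hb
    have h1 := h8.inv _ (D.mul_mem ha hb)
    have h2 := h8.inv _ ha
    have h3 := h8.inv _ hb
    have e1 : a⁻¹ = a := inv_eq_of_mul_eq_one_left h2
    have e2 : b⁻¹ = b := inv_eq_of_mul_eq_one_left h3
    have e3 : (a * b)⁻¹ = a * b := inv_eq_of_mul_eq_one_left h1
    rw [mul_inv_rev, e1, e2] at e3
    exact e3.symm
  have hDR : D ≤ Subgroup.centralizer (R : Set G) := fun d hd =>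
    Subgroup.mem_centralizer_iff.2 fun r hr => hab r (hR hr) d hd
  -- an element of the support of `e_B` in `C_G(D)`
  obtain ⟨c, hc⟩ : ∃ c, (br D (idem M B)).coeff c ≠ 0 := by
    by_contra hcon
    push Not at hcon
    exact br_idem_ne_zero hM hB hD (ext_coeff fun g => by rw [hcon]; rfl)
  rw [coeff_br] at hc
  have hcR : (c : G) ∈ Subgroup.centralizer (R : Set G) := centralizer_mono hR c.2
  -- the image of `e_B` under the Brauer map at `R`
  have hU := isUnion_of_isPBlock hB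
  have heR : IsCls (br R (idem M B)) := isCls_br_of_isCls (isCls_idem B)
  have heR2 : br R (idem M B) * br R (idem M B) = br R (idem M B) := by
    rw [← br_mul hRp (isInv_of_isCls (isCls_idem B) R) (isInv_of_isCls (isCls_idem B) R),
      idem_mul_self hM hU]
  have hNnorm : (N.subgroupOf (Subgroup.centralizer (R : Set G))).Normal := by
    constructor
    intro n hn g
    exact hNn g g.2 n hn
  have hNp : IsPGroup 2 (N.subgroupOf (Subgroup.centralizer (R : Set G))) := hN.comap_subtype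
  have hcN := supp_idem hM hNp heR heR2 (h := ⟨c, hcR⟩) (by rw [coeff_br]; exact hc)
  -- `D N` is a 2-group centralizing `c`
  have hnorm : D ≤ Subgroup.normalizer (N : Set G) := by
    intro d hd
    rw [Subgroup.mem_normalizer_iff]
    intro n
    refine ⟨fun hn => hNn d (hDR hd) n hn, fun hn => ?_⟩
    have h1 := hNn d⁻¹ (Subgroup.inv_mem _ (hDR hd)) _ hn
    simpa [mul_assoc] using h1
  have hP : IsPGroup 2 (D ⊔ N : Subgroup G) := hDp.to_sup_of_normal_right' hN hnorm
  have hcP : (c : G) ∈ Subgroup.centralizer ((D ⊔ N : Subgroup G) : Set G) := by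
    have h1 : D ⊔ N ≤ Subgroup.centralizer ({(c : G)} : Set G) := by
      refine sup_le (fun d hd => ?_) fun n hn => ?_
      · exact Subgroup.mem_centralizer_singleton_iff.2 (Subgroup.mem_centralizer_iff.1 c.2 d hd)
      · have h2 := Subgroup.mem_centralizer_iff.1 hcN ⟨n, hNR hn⟩ (Subgroup.mem_subgroupOf.2 hn)
        exact Subgroup.mem_centralizer_singleton_iff.2 (congrArg Subtype.val h2)
    rw [Subgroup.mem_centralizer_iff]
    intro y hy
    exact Subgroup.mem_centralizer_singleton_iff.1 (h1 hy)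
  have hbr : br (D ⊔ N) (idem M B) ≠ 0 := by
    intro h
    apply hc
    have h1 := congrArg (fun z => z.coeff ⟨(c : G), hcP⟩) h
    simpa using h1
  obtain ⟨x, hx⟩ := (br_idem_ne_zero_iff hM hB hD hP).1 hbr
  have h5 : Nat.card ((D ⊔ N : Subgroup G).map (MulAut.conj x).toMonoidHom : Subgroup G) =
      Nat.card (D ⊔ N : Subgroup G) :=
    Nat.card_congr ((D ⊔ N).equivMapOfInjective _ (MulAut.conj x).injective).symm.toEquiv
  have h6 : Nat.card (D ⊔ N : Subgroup G) ≤ Nat.card D := by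
    rw [← h5]
    exact Subgroup.card_le_of_le hx
  have h7 : D = D ⊔ N := Subgroup.eq_of_le_of_card_ge le_sup_left h6
  rw [h7]
  exact le_sup_right

end A

end Cfsg.Agent.H466.KKL
end

-- part: H850/KKL/Loc
section
set_option linter.all false

/-!
# S4546: 2-blocks with defect group `2^3` and inertial index divisible by three

* `Loc`: the local data at the involution `u` fixed by a 3-element of the inertial quotient.
-/

set_option autoImplicit false

open Cfsg

namespace Cfsg.Agent.H850.KKL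

open Cfsg.Agent.H613.RegGram

/-- `f` is a block of `H = C_G(u)`, `u` an involution, `f` induces `B`, all heights in `f` are zero, the four characters `ψ i` of
`f` are those with `u` in the kernel. -/
structure Loc {G : Type*} [Group G] [Finite G] (M : Ideal AlgInt) (B : Set (IrrCharacter G)) (u : G) (H : Subgroup G)
    (f : Set (IrrCharacter H)) (ψ : Fin 4 → IrrCharacter H) (ε : Fin 4 → ℤ) : Prop where
  inv : u * u = 1
  ne : u ≠ 1
  hH : H = Subgroup.centralizer ({u} : Set G)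
  ind : IsInducedBlock M H f B
  defB : blockDefect 2 B = 3
  deff : blockDefect 2 f = 3
  height : ∀ θ ∈ f, blockHeight 2 f (θ : H → ℂ) = 0
  mem : ∀ i, ψ i ∈ f
  sign : ∀ i, ε i = 1 ∨ ε i = -1
  rel : ∀ s : H, ¬ 2 ∣ orderOf s → ∑ i, (ε i : ℂ) * (ψ i : H → ℂ) s = 0
  gram : ∀ (_ : Fintype H) (i j : Fin 4), 8 * rg 2 (ψ i : H → ℂ) (ψ j : H → ℂ) =
    ((4 * (if i = j then 1 else 0) - ε i * ε j : ℤ) : ℂ)
  span : ∀ θ ∈ f, ∃ m : Fin 4 → ℤ, ∀ s : H, ¬ 2 ∣ orderOf s →
    (θ : H → ℂ) s = ∑ i, (m i : ℂ) * (ψ i : H → ℂ) s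

end Cfsg.Agent.H850.KKL
end

-- part: H850/KKL/Comb
section
set_option linter.all false
open scoped Cfsg.Agent.FastGrp

/-!
# S4546, inertial index divisible by three: the combinatorics of the rows
-/

set_option autoImplicit false

namespace Cfsg.Agent.H850.KKL

/-- exact power of two -/
def V2 (h : ℕ) (s : ℤ) : Prop := (2 : ℤ) ^ h ∣ s ∧ ¬ (2 : ℤ) ^ (h + 1) ∣ s

theorem V2.ne_zero {h : ℕ} {s : ℤ} (hs : V2 h s) : s ≠ 0 := by
  rintro rfl
  exact hs.2 (dvd_zero _)

theorem V2.eq_zero_of_odd {h : ℕ} {s : ℤ} (hs : V2 h s) (ho : ¬ (2 : ℤ) ∣ s) : h = 0 := by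
  by_contra hne
  exact ho ((dvd_pow_self _ hne).trans hs.1)

theorem V2.eq_one_of_two {h : ℕ} {s : ℤ} (hs : V2 h s) (ho : (2 : ℤ) ∣ s) (h4 : ¬ (4 : ℤ) ∣ s) : h = 1 := by
  rcases Nat.lt_trichotomy h 1 with h1 | h1 | h1
  · have h0 : h = 0 := by omega
    subst h0
    exact absurd (by simpa using ho) hs.2
  · exact h1
  · exfalso
    apply h4
    have h2 : (2 : ℤ) ^ 2 ∣ 2 ^ h := pow_dvd_pow 2 h1
    have h3 := h2.trans hs.1
    norm_num at h3
    exact h3

section

variable {ι : Type*} [Fintype ι]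

theorem two_row {a b c : ι → ℤ} (haa : ∑ x, a x * a x = 4) (hab : ∑ x, a x * b x = 2) (hac : ∑ x, a x * c x = 2)
    {h : ι → ℕ} (hb : ∀ x, V2 (h x) (4 * b x - (a x + b x + c x))) (x : ι) : a x = -1 ∨ a x = 0 ∨ a x = 1 := by
  classical
  have hle : a x * a x ≤ 4 := by
    rw [← haa]
    exact Finset.single_le_sum (f := fun x => a x * a x) (fun y _ => mul_self_nonneg _) (Finset.mem_univ x)
  have h1 : a x ≤ 2 := by nlinarith
  have h2 : -2 ≤ a x := by nlinarith
  have key : a x * a x = 4 → False := by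
    intro h4
    have hz : ∀ y, y ≠ x → a y = 0 := by
      intro y hy
      rw [← Finset.add_sum_erase Finset.univ _ (Finset.mem_univ x), h4] at haa
      have h5 : ∑ y ∈ Finset.univ.erase x, a y * a y = 0 := by linarith
      have h6 := (Finset.sum_eq_zero_iff_of_nonneg (fun y _ => mul_self_nonneg (a y))).1 h5 y
        (Finset.mem_erase.2 ⟨hy, Finset.mem_univ y⟩)
      exact mul_self_eq_zero.1 h6
    have e1 : a x * b x = 2 := by
      rw [← hab]
      exact (Finset.sum_eq_single (f := fun y => a y * b y) x (fun y _ hy => by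
        show a y * b y = 0
        rw [hz y hy, zero_mul]) (fun h => absurd (Finset.mem_univ x) h)).symm
    have e2 : a x * c x = 2 := by
      rw [← hac]
      exact (Finset.sum_eq_single (f := fun y => a y * c y) x (fun y _ hy => by
        show a y * c y = 0
        rw [hz y hy, zero_mul]) (fun h => absurd (Finset.mem_univ x) h)).symm
    have e3 : a x = 2 ∨ a x = -2 := by
      have : (a x - 2) * (a x + 2) = 0 := by linarith
      rcases mul_eq_zero.1 this with h | h
      · left; linarith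
      · right; linarith
    refine (hb x).ne_zero ?_
    rcases e3 with e3 | e3 <;> rw [e3] at e1 e2 ⊢ <;> linarith
  have h3 : a x = -2 ∨ a x = -1 ∨ a x = 0 ∨ a x = 1 ∨ a x = 2 := by omega
  rcases h3 with h3 | h3 | h3 | h3 | h3
  · exact (key (by rw [h3]; norm_num)).elim
  · exact Or.inl h3
  · exact Or.inr (Or.inl h3)
  · exact Or.inr (Or.inr h3)
  · exact (key (by rw [h3]; norm_num)).elim

/-- The rows. -/
structure Rows (a b c : ι → ℤ) (h : ι → ℕ) : Prop where
  aa : ∑ x, a x * a x = 4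
  bb : ∑ x, b x * b x = 4
  cc : ∑ x, c x * c x = 4
  ab : ∑ x, a x * b x = 2
  ac : ∑ x, a x * c x = 2
  bc : ∑ x, b x * c x = 2
  s : ∀ x, V2 (h x) (a x + b x + c x)
  va : ∀ x, V2 (h x) (4 * a x - (a x + b x + c x))
  vb : ∀ x, V2 (h x) (4 * b x - (a x + b x + c x))
  vc : ∀ x, V2 (h x) (4 * c x - (a x + b x + c x))

variable {a b c : ι → ℤ} {h : ι → ℕ}

theorem Rows.swap (H : Rows a b c h) : Rows a c b h where
  aa := H.aa
  bb := H.cc
  cc := H.bb
  ab := H.ac
  ac := H.ab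
  bc := by rw [← H.bc]; exact Finset.sum_congr rfl fun x _ => mul_comm _ _
  s x := by have := H.s x; rwa [show a x + c x + b x = a x + b x + c x by ring]
  va x := by have := H.va x; rwa [show a x + c x + b x = a x + b x + c x by ring]
  vb x := by have := H.vc x; rwa [show a x + c x + b x = a x + b x + c x by ring]
  vc x := by have := H.vb x; rwa [show a x + c x + b x = a x + b x + c x by ring]

theorem Rows.rot (H : Rows a b c h) : Rows b c a h where
  aa := H.bb
  bb := H.cc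
  cc := H.aa
  ab := H.bc
  ac := by rw [← H.ab]; exact Finset.sum_congr rfl fun x _ => mul_comm _ _
  bc := by rw [← H.ac]; exact Finset.sum_congr rfl fun x _ => mul_comm _ _
  s x := by have := H.s x; rwa [show b x + c x + a x = a x + b x + c x by ring]
  va x := by have := H.vb x; rwa [show b x + c x + a x = a x + b x + c x by ring]
  vb x := by have := H.vc x; rwa [show b x + c x + a x = a x + b x + c x by ring]
  vc x := by have := H.va x; rwa [show b x + c x + a x = a x + b x + c x by ring]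

theorem Rows.ea (H : Rows a b c h) (x : ι) : a x = -1 ∨ a x = 0 ∨ a x = 1 :=
  two_row H.aa H.ab H.ac H.vb x

theorem Rows.eb (H : Rows a b c h) (x : ι) : b x = -1 ∨ b x = 0 ∨ b x = 1 := H.rot.ea x

theorem Rows.ec (H : Rows a b c h) (x : ι) : c x = -1 ∨ c x = 0 ∨ c x = 1 := H.rot.rot.ea x

/-- height at most one -/
theorem Rows.le_one (H : Rows a b c h) (x : ι) : h x = 0 ∨ h x = 1 := by
  have h1 := H.ea x
  have h2 := H.eb x
  have h3 := H.ec x
  have h4 := (H.s x).ne_zero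
  by_cases ho : (2 : ℤ) ∣ a x + b x + c x
  · right
    refine (H.s x).eq_one_of_two ho ?_
    intro h5
    rcases h1 with h1 | h1 | h1 <;> rcases h2 with h2 | h2 | h2 <;> rcases h3 with h3 | h3 | h3 <;>
      rw [h1, h2, h3] at h4 ho h5 <;> revert h4 ho h5 <;> decide
  · left
    exact (H.s x).eq_zero_of_odd ho

/-- The pointwise inequality. -/
theorem Rows.ineq (H : Rows a b c h) (x : ι) :
    (if h x = 0 then (1 : ℤ) else 0) ≤ (a x * a x + b x * b x + c x * c x) - 2 * (a x * b x + a x * c x + b x * c x) +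
      4 * (a x * b x - (if h x = 1 ∧ a x ≠ 0 ∧ b x ≠ 0 then 1 else 0)) := by
  have h1 := H.ea x
  have h2 := H.eb x
  have h3 := H.ec x
  have h4 := (H.s x).ne_zero
  have h5 : (h x = 1) → (2 : ℤ) ∣ a x + b x + c x := by
    intro h5
    have := (H.s x).1
    rw [h5, pow_one] at this
    exact this
  rcases H.le_one x with h6 | h6
  · rw [if_pos h6, if_neg (by rw [h6]; simp)]
    have h7 : ¬ (2 : ℤ) ∣ a x + b x + c x := by
      have := (H.s x).2
      rw [h6, zero_add, pow_one] at this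
      exact this
    rcases h1 with h1 | h1 | h1 <;> rcases h2 with h2 | h2 | h2 <;> rcases h3 with h3 | h3 | h3 <;>
      rw [h1, h2, h3] at h4 h7 ⊢ <;> revert h4 h7 <;> decide
  · have h7 := h5 h6
    rw [if_neg (by rw [h6]; simp)]
    rcases h1 with h1 | h1 | h1 <;> rcases h2 with h2 | h2 | h2 <;> rcases h3 with h3 | h3 | h3 <;>
      rw [h1, h2, h3] at h4 h7 ⊢ <;> simp only [h6] <;> revert h4 h7 <;> decide

/-- If two even rows of the first type exist then there is no odd row. -/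
theorem Rows.none (H : Rows a b c h) (h2 : 2 ≤ (Finset.univ.filter fun x => h x = 1 ∧ a x ≠ 0 ∧ b x ≠ 0).card) (x : ι) :
    h x ≠ 0 := by
  classical
  intro hx
  have h3 := Finset.sum_le_sum fun x (_ : x ∈ Finset.univ) => H.ineq x
  simp only [Finset.sum_add_distrib, Finset.sum_sub_distrib, ← Finset.mul_sum, H.aa, H.bb, H.cc, H.ab, H.ac, H.bc,
    Finset.sum_boole] at h3
  have h4 : 1 ≤ (Finset.univ.filter fun x => h x = 0).card :=
    Finset.card_pos.2 ⟨x, Finset.mem_filter.2 ⟨Finset.mem_univ x, hx⟩⟩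
  have h5 : (1 : ℤ) ≤ ((Finset.univ.filter fun x => h x = 0).card : ℤ) := by exact_mod_cast h4
  have h6 : (2 : ℤ) ≤ ((Finset.univ.filter fun x => h x = 1 ∧ a x ≠ 0 ∧ b x ≠ 0).card : ℤ) := by exact_mod_cast h2
  linarith

theorem Rows.not_ab (H : Rows a b c h) (he : 2 ∣ (Finset.univ.filter fun x => h x = 1 ∧ a x ≠ 0 ∧ b x ≠ 0).card)
    {x₀ : ι} (h0 : h x₀ = 0) (x : ι) : ¬ (h x = 1 ∧ a x ≠ 0 ∧ b x ≠ 0) := by
  intro hx
  have h4 : 1 ≤ (Finset.univ.filter fun x => h x = 1 ∧ a x ≠ 0 ∧ b x ≠ 0).card :=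
    Finset.card_pos.2 ⟨x, Finset.mem_filter.2 ⟨Finset.mem_univ x, hx⟩⟩
  exact H.none (by omega) x₀ h0

/-- **The combinatorics**: all heights are zero. -/
theorem Rows.main (H : Rows a b c h) {x₀ : ι} (h0 : h x₀ = 0)
    (he1 : 2 ∣ (Finset.univ.filter fun x => h x = 1 ∧ a x ≠ 0 ∧ b x ≠ 0).card)
    (he2 : 2 ∣ (Finset.univ.filter fun x => h x = 1 ∧ b x ≠ 0 ∧ c x ≠ 0).card)
    (he3 : 2 ∣ (Finset.univ.filter fun x => h x = 1 ∧ c x ≠ 0 ∧ a x ≠ 0).card) (x : ι) : h x = 0 := by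
  rcases H.le_one x with h6 | h6
  · exact h6
  · exfalso
    have e1 := H.not_ab he1 h0 x
    have e2 := H.rot.not_ab he2 h0 x
    have e3 := H.rot.rot.not_ab he3 h0 x
    have h7 : (2 : ℤ) ∣ a x + b x + c x := by
      have := (H.s x).1
      rw [h6, pow_one] at this
      exact this
    have h4 := (H.s x).ne_zero
    have h1 := H.ea x
    have h2 := H.eb x
    have h3 := H.ec x
    simp only [h6, true_and, ne_eq, not_and, not_not] at e1 e2 e3
    omega

end

end Cfsg.Agent.H850.KKL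
end

-- part: H639/KKLRows
section
set_option linter.all false
open scoped Cfsg.Agent.FastGrp

/-!
# S4546: the rows of a 2-block of defect `2^3`, inertial index divisible by three (for helper850)

* `wt_unit`: `b` a block of `H = C_G(v)`, `v` a `p`-element, `b` induces `B`, same defect `d`, `η ∈ b` of height zero,
  `χ ∈ B` of height `h`: `p ^ d * wt χ η / p ^ h` is a local unit.
* `rows`: the three integral rows attached to the local data `Loc`.
-/

set_option autoImplicit false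

open Cfsg
open scoped ComplexConjugate

namespace Cfsg.Agent.H639.KKLRows

open Cfsg.Agent.Blocks.Local Cfsg.Agent.Blocks.Blau Cfsg.Agent.Characters
open Cfsg.Agent.H613.RegGram Cfsg.Agent.H613.Contrib Cfsg.Agent.H613.ContribVal
open Cfsg.Agent.H850.KKL

section unit

variable {G : Type*} [Group G] [Fintype G] {p : ℕ} [Fact p.Prime] {M : Ideal AlgInt} {u : G} {H : Subgroup G}
  [Fintype H] {B : Set (IrrCharacter G)} {b : Set (IrrCharacter H)}

/-- `|G| wt χ η / χ 1` modulo the local ideal does not depend on `χ` in its block. -/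
theorem memLocalIdeal_card_mul_wt_sub (hM : IsPModular p M) {v : G} (hv : ∃ i : ℕ, orderOf v = p ^ i)
    (hH : H = Subgroup.centralizer ({v} : Set G)) {χ χ' : IrrCharacter G}
    (h : SameBlock M (χ : G → ℂ) (χ' : G → ℂ)) (η : IrrCharacter H) :
    MemLocalIdeal M ((Nat.card G : ℂ) * wt p v (χ : G → ℂ) (η : H → ℂ) / (χ : G → ℂ) 1 -
      (Nat.card G : ℂ) * wt p v (χ' : G → ℂ) (η : H → ℂ) / (χ' : G → ℂ) 1) := by
  have := isPrime_of_isPModular hM
  have hHc : (Nat.card H : ℂ) ≠ 0 := by exact_mod_cast Nat.card_pos.ne'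
  obtain ⟨F, hF, hFint, hFsum⟩ := Cfsg.Agent.H624.MajVal.exists_section (p := p) hM hv hH
    (s := fun y => conj (regPart p (η : H → ℂ) y)) (fun g h => by
      show conj _ = conj _
      rw [regPart_isClassFunction (Core.isIrr_isClassFunction η.2) g h]) (fun y hy => by
      show conj _ = _
      rw [regPart_of_dvd hy, map_zero]) (fun y => by
      refine isIntegral_conj ?_
      unfold regPart
      split
      · exact isIntegral_zero
      · exact isIntegral_of_isCharacter (Core.isIrr_isCharacter η.2) y)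
  have key : ∀ χ : IrrCharacter G, ∑ g : G, F g * ((χ : G → ℂ) g / (χ : G → ℂ) 1) =
      (Nat.card G : ℂ) * wt p v (χ : G → ℂ) (η : H → ℂ) / (χ : G → ℂ) 1 := by
    intro χ
    have h1 := hFsum _ (Core.isIrr_isClassFunction χ.2)
    have h2 : ∑ g : G, F g * ((χ : G → ℂ) g / (χ : G → ℂ) 1) =
        (∑ g : G, F g * (χ : G → ℂ) g) / (χ : G → ℂ) 1 := by
      rw [Finset.sum_div]
      exact Finset.sum_congr rfl fun g _ => by rw [mul_div_assoc]
    have h3 : ∑ y : H, conj (regPart p (η : H → ℂ) y) * (χ : G → ℂ) (v * (y : G)) =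
        (Nat.card H : ℂ) * wt p v (χ : G → ℂ) (η : H → ℂ) := by
      rw [wt_def, rg_def, pair_def, mul_inv_cancel_left₀ hHc]
      refine Finset.sum_congr rfl fun y _ => ?_
      by_cases hy : p ∣ orderOf y
      · rw [regPart_of_dvd hy, regPart_of_dvd hy]
        simp
      · rw [regPart_of_not_dvd hy, regPart_of_not_dvd hy]
    rw [h2, h1, h3]
    congr 1
    field_simp
  rw [← key χ, ← key χ']
  exact Cfsg.Agent.Blocks.ClassSum.memLocalIdeal_of_sameBlock (Core.isIrr_isClassFunction χ.2)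
    (Core.isIrr_isClassFunction χ'.2) h hF fun g => memLocalRing_of_isIntegral (hFint g)

variable [Fintype (IrrCharacter H)] {n : IrrCharacter G → IrrCharacter H → ℕ} {e : IrrCharacter H → ℂ} {j : ℕ}

theorem wt_unit [Fintype b] (hM : IsPModular p M) (hE : Exp u H (p ^ j) n e) (hu : ∃ i : ℕ, orderOf u = p ^ i)
    (hH : H = Subgroup.centralizer ({u} : Set G)) (hind : IsInducedBlock M H b B)
    (hd : blockDefect p b = blockDefect p B) {χ : IrrCharacter G} (hχ : χ ∈ B) {η : IrrCharacter H} (hη : η ∈ b)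
    (hη0 : blockHeight p b (η : H → ℂ) = 0) :
    MemLocalRing M ((p : ℂ) ^ blockDefect p B * wt p u (χ : G → ℂ) (η : H → ℂ) /
      (p : ℂ) ^ blockHeight p B (χ : G → ℂ)) ∧
    ¬ MemLocalIdeal M ((p : ℂ) ^ blockDefect p B * wt p u (χ : G → ℂ) (η : H → ℂ) /
      (p : ℂ) ^ blockHeight p B (χ : G → ℂ)) := by
  have := isPrime_of_isPModular hM
  obtain ⟨χ₀, hχ₀, hχ₀0⟩ := exists_blockHeight_eq_zero p (isPBlock_nonempty hM hind.2.1)
  have hp0 : (p : ℂ) ≠ 0 := by exact_mod_cast hM.1.ne_zero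
  have hχ1 := apply_one_ne_zero χ₀
  have hG : (Nat.card G : ℂ) ≠ 0 := by exact_mod_cast Nat.card_pos.ne'
  have e1 : (p : ℂ) ^ blockDefect p B * wt p u (χ : G → ℂ) (η : H → ℂ) / (p : ℂ) ^ blockHeight p B (χ : G → ℂ) =
      ((p : ℂ) ^ blockDefect p B * (χ : G → ℂ) 1 /
        ((Nat.card G : ℂ) * (p : ℂ) ^ blockHeight p B (χ : G → ℂ))) *
      ((Nat.card G : ℂ) * wt p u (χ : G → ℂ) (η : H → ℂ) / (χ : G → ℂ) 1) := by
    have hχ1 := apply_one_ne_zero χ
    field_simp
  -- the character of height zero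
  have h1 := memLocalIdeal_wt_sub hM hE hind.1 hη hη0 χ₀ 1 hη
  rw [pow_one, div_self (apply_one_ne_zero η), mul_one, hd] at h1
  have h2 : MemLocalRing M ((p : ℂ) ^ blockDefect p B * rg p (η : H → ℂ) (η : H → ℂ)) := by
    rw [← hd]
    exact memLocalRing_pow_mul_rg hM hη (Core.isIrr_isCharacter η.2)
  have h3 : ¬ MemLocalIdeal M ((p : ℂ) ^ blockDefect p B * rg p (η : H → ℂ) (η : H → ℂ)) := by
    rw [← hd]
    exact not_memLocalIdeal_rg_self hM hind.1 hη hη0
  have h4 : MemLocalRing M ((p : ℂ) ^ blockDefect p B * wt p u (χ₀ : G → ℂ) (η : H → ℂ)) := by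
    rw [memLocalRing_iff_of_sub h1]
    exact memLocalRing_mul h2 (memLocalRing_dg hM hη0 χ₀)
  have h5 : ¬ MemLocalIdeal M ((p : ℂ) ^ blockDefect p B * wt p u (χ₀ : G → ℂ) (η : H → ℂ)) := by
    rw [memLocalIdeal_iff_of_sub h1]
    intro h
    rcases memLocalIdeal_or_of_mul h2 (memLocalRing_dg hM hη0 χ₀) h with h | h
    · exact h3 h
    · exact not_memLocalIdeal_dg hM hE hind hη hη0 hχ₀ hχ₀0 h
  have hsub := memLocalIdeal_card_mul_wt_sub hM hu hH (sameBlock_of_mem hM hind.2.1 hχ hχ₀) η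
  have h6 : MemLocalRing M ((Nat.card G : ℂ) * wt p u (χ₀ : G → ℂ) (η : H → ℂ) / (χ₀ : G → ℂ) 1) := by
    have h := memLocalRing_mul (memLocalRing_card_div_defect hM hχ₀ hχ₀0) h4
    convert h using 1
    field_simp
  have h7 : ¬ MemLocalIdeal M ((Nat.card G : ℂ) * wt p u (χ₀ : G → ℂ) (η : H → ℂ) / (χ₀ : G → ℂ) 1) := by
    intro h
    apply h5
    have h8 := memLocalIdeal_mul_left (memLocalRing_defect_mul_div hM hχ₀) h
    convert h8 using 1
    field_simp
  rw [e1]
  refine ⟨memLocalRing_mul (Cfsg.Agent.H624.MajVal.unit_factor hM hχ).1 ((memLocalRing_iff_of_sub hsub).2 h6),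
    fun h => ?_⟩
  rcases memLocalIdeal_or_of_mul (Cfsg.Agent.H624.MajVal.unit_factor hM hχ).1
    ((memLocalRing_iff_of_sub hsub).2 h6) h with h8 | h8
  · exact (Cfsg.Agent.H624.MajVal.unit_factor hM hχ).2 h8
  · exact h7 ((memLocalIdeal_iff_of_sub hsub).1 h8)

end unit

/-- An integer `w` such that `w / 2 ^ h` is a local unit. -/
theorem v2_of_unit {M : Ideal AlgInt} (hM : IsPModular 2 M) {h : ℕ} {w : ℤ}
    (h1 : MemLocalRing M ((w : ℂ) / (2 : ℂ) ^ h)) (h2 : ¬ MemLocalIdeal M ((w : ℂ) / (2 : ℂ) ^ h)) : V2 h w := by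
  have := isPrime_of_isPModular hM
  refine ⟨?_, fun hd => h2 ?_⟩
  · exact_mod_cast pow_dvd_of_memLocalRing (p := 2) hM h (k := w) (by exact_mod_cast h1)
  · obtain ⟨k, rfl⟩ := hd
    have e1 : (((2 : ℤ) ^ (h + 1) * k : ℤ) : ℂ) / (2 : ℂ) ^ h = ((2 * k : ℤ) : ℂ) := by
      push_cast
      rw [pow_succ]
      field_simp
    rw [e1]
    exact (memLocalIdeal_intCast_iff (p := 2) hM _).2 (by simp)

theorem rows {G : Type*} [Group G] [Fintype G] {M : Ideal AlgInt} (hM : IsPModular 2 M) {B : Set (IrrCharacter G)}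
    [Fintype B] {u : G} {H : Subgroup G} [Fintype H] {f : Set (IrrCharacter H)} {ψ : Fin 4 → IrrCharacter H}
    {ε : Fin 4 → ℤ} (L : Loc M B u H f ψ ε) :
    ∃ μ : B → Fin 4 → ℤ, (∀ (χ : B) (i : Fin 4), 8 * (ε i : ℂ) * wt 2 u ((χ : IrrCharacter G) : G → ℂ)
        (ψ i : H → ℂ) = ((4 * μ χ i - ∑ l, μ χ l : ℤ) : ℂ)) ∧
      Rows (fun χ => μ χ 0 - μ χ 3) (fun χ => μ χ 1 - μ χ 3) (fun χ => μ χ 2 - μ χ 3)
        (fun χ : B => blockHeight 2 B ((χ : IrrCharacter G) : G → ℂ)) := by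
  classical
  haveI : Fact (Nat.Prime 2) := ⟨Nat.prime_two⟩
  have := isPrime_of_isPModular hM
  have := Core.finite_irr (G := H)
  have := Fintype.ofFinite (IrrCharacter H)
  have : Fintype f := Fintype.ofFinite f
  have hε : ∀ i, (ε i : ℤ) * ε i = 1 := by
    intro i
    rcases L.sign i with h | h <;> rw [h] <;> norm_num
  have hεc : ∀ i, (ε i : ℂ) * (ε i : ℂ) = 1 := fun i => by exact_mod_cast hε i
  have hu2 : u ^ 2 = 1 := by rw [pow_two]; exact L.inv
  have hord : orderOf u = 2 := orderOf_eq_prime hu2 L.ne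
  have hu : ∃ k : ℕ, orderOf u = 2 ^ k := ⟨1, by rw [hord, pow_one]⟩
  obtain ⟨n, e, hE⟩ := exists_exp (q := 2 ^ 1) L.hH (by rw [pow_one]; exact hu2)
  -- the signs `e ξ`
  have hsg : ∀ ξ, ∃ s : ℤ, e ξ = (s : ℂ) := by
    intro ξ
    have h1 := hE.root ξ
    rw [pow_one] at h1
    rcases mul_eq_zero.1 (show (e ξ - 1) * (e ξ + 1) = 0 by linear_combination h1) with h | h
    · exact ⟨1, by rw [sub_eq_zero.1 h]; norm_num⟩
    · exact ⟨-1, by rw [eq_neg_of_add_eq_zero_left h]; norm_num⟩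
  choose s hs using hsg
  -- the coefficients
  have hspan : ∀ ξ : f, ∃ m : Fin 4 → ℤ, ∀ y : H, ¬ 2 ∣ orderOf y →
      ((ξ : IrrCharacter H) : H → ℂ) y = ∑ i, (m i : ℂ) * (ψ i : H → ℂ) y := fun ξ => L.span ξ ξ.2
  choose m hm using hspan
  have hrg : ∀ (ξ : f) (i : Fin 4), 8 * (ε i : ℂ) * rg 2 ((ξ : IrrCharacter H) : H → ℂ) (ψ i : H → ℂ) =
      ((4 * (m ξ i * ε i) - ∑ l, m ξ l * ε l : ℤ) : ℂ) := by
    intro ξ i
    have h1 : rg 2 ((ξ : IrrCharacter H) : H → ℂ) (ψ i : H → ℂ) =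
        ∑ l, (m ξ l : ℂ) * rg 2 (ψ l : H → ℂ) (ψ i : H → ℂ) := by
      rw [← rg_sum_smul_left]
      rw [rg_def, rg_def, pair_def, pair_def]
      congr 1
      refine Finset.sum_congr rfl fun y _ => ?_
      by_cases hy : 2 ∣ orderOf y
      · rw [regPart_of_dvd hy, zero_mul, zero_mul]
      · rw [hm ξ y hy, Finset.sum_apply]
        rfl
    rw [h1, Finset.mul_sum]
    have h2 : ∀ l : Fin 4, 8 * (ε i : ℂ) * ((m ξ l : ℂ) * rg 2 (ψ l : H → ℂ) (ψ i : H → ℂ)) =
        ((m ξ l * ε i * (4 * (if l = i then 1 else 0) - ε l * ε i) : ℤ) : ℂ) := by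
      intro l
      have h3 := L.gram inferInstance l i
      push_cast at h3 ⊢
      rw [← h3]
      ring
    rw [Finset.sum_congr rfl fun l _ => h2 l, ← Int.cast_sum]
    congr 1
    have h4 : ∀ l : Fin 4, m ξ l * ε i * (4 * (if l = i then 1 else 0) - ε l * ε i) =
        (if l = i then 4 * (m ξ i * ε i) else 0) - m ξ l * ε l := by
      intro l
      split_ifs with h
      · subst h
        have := hε l
        linear_combination (-(m ξ l * ε l)) * this
      · have := hε i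
        linear_combination (-(m ξ l * ε l)) * this
    rw [Finset.sum_congr rfl fun l _ => h4 l, Finset.sum_sub_distrib, Finset.sum_ite_eq' Finset.univ i]
    simp
  let μ : B → Fin 4 → ℤ := fun χ l => ∑ ξ : f, (n χ ξ : ℤ) * s ξ * (m ξ l * ε l)
  have hw : ∀ (χ : B) (i : Fin 4), 8 * (ε i : ℂ) * wt 2 u ((χ : IrrCharacter G) : G → ℂ)
        (ψ i : H → ℂ) = ((4 * μ χ i - ∑ l, μ χ l : ℤ) : ℂ) := by
    intro χ i
    have h1 := wt_eq_sum hM hE L.ind.1 (χ : IrrCharacter G) 1 (L.mem i)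
    rw [pow_one] at h1
    rw [h1, Finset.mul_sum]
    have h2 : ∀ ξ : f, 8 * (ε i : ℂ) * ((n χ ξ : ℂ) * e ξ ^ 1 * rg 2 ((ξ : IrrCharacter H) : H → ℂ) (ψ i : H → ℂ)) =
        (((n χ ξ : ℤ) * s ξ * (4 * (m ξ i * ε i) - ∑ l, m ξ l * ε l) : ℤ) : ℂ) := by
      intro ξ
      have h3 := hrg ξ i
      rw [pow_one, hs, Int.cast_mul, ← h3]
      push_cast
      ring
    rw [Finset.sum_congr rfl fun ξ _ => h2 ξ, ← Int.cast_sum]
    congr 1
    show _ = 4 * (∑ ξ : f, (n χ ξ : ℤ) * s ξ * (m ξ i * ε i)) - ∑ l, ∑ ξ : f, (n χ ξ : ℤ) * s ξ * (m ξ l * ε l)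
    rw [Finset.sum_comm, Finset.mul_sum, ← Finset.sum_sub_distrib]
    refine Finset.sum_congr rfl fun ξ _ => ?_
    rw [← Finset.mul_sum]
    ring
  -- valuations
  have hval : ∀ (χ : B) (i : Fin 4), V2 (blockHeight 2 B ((χ : IrrCharacter G) : G → ℂ)) (4 * μ χ i - ∑ l, μ χ l) := by
    intro χ i
    have h1 := wt_unit hM hE hu L.hH L.ind (by rw [L.deff, L.defB]) χ.2 (L.mem i) (L.height _ (L.mem i))
    rw [L.defB] at h1
    push_cast at h1
    -- the sign
    have h2 : ((4 * μ χ i - ∑ l, μ χ l : ℤ) : ℂ) / (2 : ℂ) ^ blockHeight 2 B ((χ : IrrCharacter G) : G → ℂ) =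
        (ε i : ℂ) * ((2 : ℂ) ^ 3 * wt 2 u ((χ : IrrCharacter G) : G → ℂ) (ψ i : H → ℂ) /
          (2 : ℂ) ^ blockHeight 2 B ((χ : IrrCharacter G) : G → ℂ)) := by
      rw [← hw χ i]
      ring
    refine v2_of_unit hM ?_ ?_
    · rw [h2]
      exact memLocalRing_mul (memLocalRing_intCast _) h1.1
    · rw [h2]
      intro h3
      apply h1.2
      have h4 := memLocalIdeal_mul_left (memLocalRing_intCast (M := M) (ε i)) h3
      rwa [← mul_assoc, hεc, one_mul] at h4
  -- Gram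
  have hgram : ∀ i l : Fin 4, ∑ χ : B, (4 * μ χ i - ∑ k, μ χ k) * (4 * μ χ l - ∑ k, μ χ k) =
      8 * (4 * (if i = l then 1 else 0) - 1) := by
    intro i l
    have h1 := sum_wt_mul_conj_wt hM hu L.hH L.ind (L.mem i) (L.mem l)
    have h2 : ∀ χ : B, conj (wt 2 u ((χ : IrrCharacter G) : G → ℂ) (ψ l : H → ℂ)) =
        wt 2 u ((χ : IrrCharacter G) : G → ℂ) (ψ l : H → ℂ) := by
      intro χ
      have h3 : wt 2 u ((χ : IrrCharacter G) : G → ℂ) (ψ l : H → ℂ) =
          (ε l : ℂ) * ((4 * μ χ l - ∑ k, μ χ k : ℤ) : ℂ) / 8 := by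
        rw [← hw χ l]
        linear_combination (-(wt 2 u ((χ : IrrCharacter G) : G → ℂ) (ψ l : H → ℂ))) * hεc l
      rw [h3, map_div₀, map_mul, map_intCast, map_intCast]
      congr 1
      exact map_ofNat _ _
    have h4 : ((∑ χ : B, (4 * μ χ i - ∑ k, μ χ k) * (4 * μ χ l - ∑ k, μ χ k) : ℤ) : ℂ) =
        64 * (ε i : ℂ) * (ε l : ℂ) * rg 2 (ψ l : H → ℂ) (ψ i : H → ℂ) := by
      rw [← h1, Finset.mul_sum, Int.cast_sum]
      refine Finset.sum_congr rfl fun χ _ => ?_
      rw [Int.cast_mul, ← hw χ i, ← hw χ l, h2]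
      ring
    have h5 := L.gram inferInstance l i
    have h6 : (64 : ℂ) * (ε i : ℂ) * (ε l : ℂ) * rg 2 (ψ l : H → ℂ) (ψ i : H → ℂ) =
        ((8 * ε i * ε l * (4 * (if l = i then 1 else 0) - ε l * ε i) : ℤ) : ℂ) := by
      push_cast at h5 ⊢
      linear_combination (8 * (ε i : ℂ) * (ε l : ℂ)) * h5
    rw [h6] at h4
    have h7 := Int.cast_injective h4
    rw [h7]
    by_cases hil : i = l
    · subst hil
      have := hε i
      rw [if_pos rfl]
      linear_combination (32 - 8 * (ε i * ε i) - 8) * this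
    · rw [if_neg hil, if_neg (Ne.symm hil)]
      have h8 := hε i
      have h9 := hε l
      linear_combination (-8 * (ε l * ε l)) * h8 - 8 * h9
  -- the rows
  have hS : ∀ (χ : B), ∑ k, μ χ k = μ χ 0 + μ χ 1 + μ χ 2 + μ χ 3 := fun χ => Fin.sum_univ_four _
  have hrow : ∀ i l : Fin 4, i ≠ 3 → l ≠ 3 → ∑ χ : B, (μ χ i - μ χ 3) * (μ χ l - μ χ 3) = if i = l then 4 else 2 := by
    intro i l hi hl
    have h1 : ∑ χ : B, (4 * (μ χ i - μ χ 3)) * (4 * (μ χ l - μ χ 3)) =
        ∑ χ : B, (4 * μ χ i - ∑ k, μ χ k) * (4 * μ χ l - ∑ k, μ χ k) -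
        ∑ χ : B, (4 * μ χ i - ∑ k, μ χ k) * (4 * μ χ 3 - ∑ k, μ χ k) -
        ∑ χ : B, (4 * μ χ 3 - ∑ k, μ χ k) * (4 * μ χ l - ∑ k, μ χ k) +
        ∑ χ : B, (4 * μ χ 3 - ∑ k, μ χ k) * (4 * μ χ 3 - ∑ k, μ χ k) := by
      rw [← Finset.sum_sub_distrib, ← Finset.sum_sub_distrib, ← Finset.sum_add_distrib]
      exact Finset.sum_congr rfl fun χ _ => by ring
    rw [hgram, hgram, hgram, hgram, if_neg hi, if_neg (Ne.symm hl), if_pos rfl] at h1
    have h2 : ∑ χ : B, (4 * (μ χ i - μ χ 3)) * (4 * (μ χ l - μ χ 3)) =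
        16 * ∑ χ : B, (μ χ i - μ χ 3) * (μ χ l - μ χ 3) := by
      rw [Finset.mul_sum]
      exact Finset.sum_congr rfl fun χ _ => by ring
    rw [h2] at h1
    split_ifs at h1 ⊢ <;> linarith
  refine ⟨μ, hw, ?_⟩
  refine ⟨?_, ?_, ?_, ?_, ?_, ?_, fun χ => ?_, fun χ => ?_, fun χ => ?_, fun χ => ?_⟩
  · exact (hrow 0 0 (by decide) (by decide)).trans (by decide)
  · exact (hrow 1 1 (by decide) (by decide)).trans (by decide)
  · exact (hrow 2 2 (by decide) (by decide)).trans (by decide)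
  · exact (hrow 0 1 (by decide) (by decide)).trans (by decide)
  · exact (hrow 0 2 (by decide) (by decide)).trans (by decide)
  · exact (hrow 1 2 (by decide) (by decide)).trans (by decide)
  · have h1 := hval χ 3
    rw [hS χ] at h1
    have h2 : (μ χ 0 - μ χ 3 + (μ χ 1 - μ χ 3) + (μ χ 2 - μ χ 3)) =
        -(4 * μ χ 3 - (μ χ 0 + μ χ 1 + μ χ 2 + μ χ 3)) := by ring
    show V2 _ (μ χ 0 - μ χ 3 + (μ χ 1 - μ χ 3) + (μ χ 2 - μ χ 3))
    rw [h2]
    exact ⟨(dvd_neg).2 h1.1, fun h => h1.2 ((dvd_neg).1 h)⟩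
  · have h1 := hval χ 0
    rw [hS χ] at h1
    show V2 _ (4 * (μ χ 0 - μ χ 3) - (μ χ 0 - μ χ 3 + (μ χ 1 - μ χ 3) + (μ χ 2 - μ χ 3)))
    convert h1 using 1
    ring
  · have h1 := hval χ 1
    rw [hS χ] at h1
    show V2 _ (4 * (μ χ 1 - μ χ 3) - (μ χ 0 - μ χ 3 + (μ χ 1 - μ χ 3) + (μ χ 2 - μ χ 3)))
    convert h1 using 1
    ring
  · have h1 := hval χ 2
    rw [hS χ] at h1
    show V2 _ (4 * (μ χ 2 - μ χ 3) - (μ χ 0 - μ χ 3 + (μ χ 1 - μ χ 3) + (μ χ 2 - μ χ 3)))
    convert h1 using 1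
    ring

end Cfsg.Agent.H639.KKLRows
end
end
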